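import Cfsg.Agent.J4Type.DuadM24
import Cfsg.Agent.J4Type.OctadFixTrans
import Cfsg.Prelude.Def_Spor_Mathieu

-- merged: Cfsg.Agent.KFacts.FiTTh.MTwThree
section

/-!
# Fi23, facts on `K` (helper840): involutions of `M23`

* `exists_octad` : an involution of `M23` fixes exactly the points of an octad through `none`;
* `conj_of` : `M23` has one class of involutions;
* `card_le_sixteen` : an elementary abelian 2-subgroup of `M23` has order at most `16`;
* `exists_moved` : two different commuting involutions `v`, `w` of `M23` do not preserve the same pairs `{p, v p}`.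
-/

set_option autoImplicit false

namespace Cfsg.Agent.KFacts.FiTTh.MTwThree

open Cfsg Cfsg.Agent.SporadicA.GolayBase Cfsg.Agent.SporadicA.OctadFix
open Cfsg.Agent.GolayOrbit.Flags Cfsg.Agent.J4Type.OctadFixTrans
open Cfsg.Agent.GolayOrbit.Basic (ofMask)
open scoped Pointwise

theorem mem_M23 {g : Equiv.Perm GolayPt} : g ∈ Spor.M23 ↔ g ∈ M24 ∧ g none = none := Iff.rfl

/-- an involution of `M23` fixes exactly the points of an octad through `none` -/
theorem exists_octad {g : Equiv.Perm GolayPt} (hg : g ∈ Spor.M23) (h2 : g * g = 1) (h1 : g ≠ 1) :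
    ∃ O ∈ octads, none ∈ O ∧ ∀ p, g p = p ↔ p ∈ O := by
  obtain ⟨O, hO, h⟩ := Cfsg.Agent.J4Type.DuadM24.fix_octad hg.1 h2 h1 (mem_M23.1 hg).2
  exact ⟨O, hO, (h none).1 (mem_M23.1 hg).2, h⟩

theorem exists_ne {O : Finset GolayPt} (hO : O ∈ octads) : ∃ y ∈ O, none ≠ y := by
  by_contra h
  push Not at h
  have h1 : O ⊆ {none} := fun y hy => Finset.mem_singleton.2 (h y hy).symm
  have h2 := Finset.card_le_card h1
  rw [octad_card hO, Finset.card_singleton] at h2
  omega

/-- `M23` is transitive on the octads through `none` -/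
theorem octad_trans {O O' : Finset GolayPt} (hO : O ∈ octads) (hO' : O' ∈ octads) (h : none ∈ O)
    (h' : none ∈ O') : ∃ k ∈ Spor.M23, k • O = O' := by
  obtain ⟨y, hy, hny⟩ := exists_ne hO
  obtain ⟨y', hy', hny'⟩ := exists_ne hO'
  obtain ⟨k, hk, k1, k2, -⟩ := flagIn hO h hy hny
  obtain ⟨l, hl, l1, l2, -⟩ := flagIn hO' h' hy' hny'
  refine ⟨l * k⁻¹, mem_M23.2 ⟨M24.mul_mem hl (M24.inv_mem hk), ?_⟩, ?_⟩
  · rw [Equiv.Perm.mul_apply, show k⁻¹ none = p₀ by rw [Equiv.Perm.inv_eq_iff_eq, k2], l2]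
  · rw [mul_smul, show k⁻¹ • O = ofMask O₀ by rw [inv_smul_eq_iff, k1], l1]

/-- `M23` has one class of involutions -/
theorem conj_of {g g' : Equiv.Perm GolayPt} (hg : g ∈ Spor.M23) (hg' : g' ∈ Spor.M23) (h2 : g * g = 1)
    (h2' : g' * g' = 1) (h1 : g ≠ 1) (h1' : g' ≠ 1) : ∃ k ∈ Spor.M23, k * g * k⁻¹ = g' := by
  obtain ⟨O, hO, hn, h⟩ := exists_octad hg h2 h1
  obtain ⟨O', hO', hn', h'⟩ := exists_octad hg' h2' h1'
  obtain ⟨y', hy', hny'⟩ := exists_ne hO'
  obtain ⟨m, hm, hmO⟩ := octad_trans hO hO' hn hn'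
  have hf : g ∈ fixOct O := mem_fixOct.2 ⟨(mem_M23.1 hg).1, fun p hp => (h p).2 hp⟩
  have hf' : g' ∈ fixOct O' := mem_fixOct.2 ⟨(mem_M23.1 hg').1, fun p hp => (h' p).2 hp⟩
  have hfm : m * g * m⁻¹ ∈ fixOct O' := by
    rw [← hmO]
    exact (conj_mem_fixOct (o := O) (mem_M23.1 hm).1).2 hf
  have hne : m * g * m⁻¹ ≠ 1 := by
    intro he
    apply h1
    rw [mul_inv_eq_one] at he
    exact mul_left_cancel (he.trans (mul_one m).symm)
  obtain ⟨k, hk, k1, -, -, k4⟩ := fix_conj hO' hn' hy' hny' hfm hf' hne h1'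
  refine ⟨k * m, mem_M23.2 ⟨M24.mul_mem hk (mem_M23.1 hm).1, ?_⟩, ?_⟩
  · rw [Equiv.Perm.mul_apply, (mem_M23.1 hm).2, k1]
  · rw [← k4]
    group

theorem card_pts : Fintype.card GolayPt = 24 := by decide +kernel

theorem card_fix {g : Equiv.Perm GolayPt} (hg : g ∈ Spor.M23) (h2 : g * g = 1) (h1 : g ≠ 1) :
    (Finset.univ.filter fun p : GolayPt => g p = p).card = 8 := by
  obtain ⟨O, hO, -, h⟩ := exists_octad hg h2 h1
  rw [← octad_card hO]
  congr 1
  ext p
  rw [Finset.mem_filter, h p]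
  simp

/-- an elementary abelian 2-subgroup of `M23` has order at most `16` -/
theorem card_le_sixteen {V : Subgroup (Equiv.Perm GolayPt)} (hV : V ≤ Spor.M23) (h2 : ∀ v ∈ V, v * v = 1) :
    Nat.card V ≤ 16 := by
  classical
  haveI : Fintype V := Fintype.ofFinite V
  haveI : Fintype (Quotient (MulAction.orbitRel V GolayPt)) := Fintype.ofFinite _
  have hB := MulAction.sum_card_fixedBy_eq_card_orbits_mul_card_group V GolayPt
  have h1 : ∀ v : V, Fintype.card (MulAction.fixedBy GolayPt v) = if v = 1 then 24 else 8 := by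
    intro v
    have e1 : Fintype.card (MulAction.fixedBy GolayPt v)
        = (Finset.univ.filter fun p : GolayPt => (v : Equiv.Perm GolayPt) p = p).card := by
      rw [Fintype.card_subtype]
      congr 1
    rw [e1]
    split_ifs with hv
    · subst hv
      rw [Finset.filter_true_of_mem (fun p _ => by rw [Subgroup.coe_one, Equiv.Perm.one_apply]),
        Finset.card_univ, card_pts]
    · exact card_fix (hV v.2) (h2 _ v.2) (fun he => hv (Subtype.ext he))
  rw [Finset.sum_congr rfl (fun v _ => h1 v), Finset.sum_ite, Finset.sum_const, Finset.sum_const] at hB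
  have h3 : (Finset.univ.filter fun v : V => v = 1).card = 1 := by
    rw [Finset.filter_eq' Finset.univ (1 : V), if_pos (Finset.mem_univ _), Finset.card_singleton]
  have h4 : (Finset.univ.filter fun v : V => v = 1).card + (Finset.univ.filter fun v : V => ¬ v = 1).card
      = Fintype.card V := by
    rw [Finset.card_filter_add_card_filter_not, Finset.card_univ]
  rw [h3] at h4 hB
  have h5 : Fintype.card V ∣ 16 := by
    have h6 : 16 + 8 * Fintype.card V = Fintype.card (Quotient (MulAction.orbitRel V GolayPt)) * Fintype.card V := by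
      rw [← hB, ← h4]
      simp only [smul_eq_mul]
      ring
    have h7 : Fintype.card V ∣ 16 + 8 * Fintype.card V := ⟨_, h6.trans (mul_comm _ _)⟩
    exact (Nat.dvd_add_left (Dvd.intro_left 8 rfl)).1 h7
  rw [Nat.card_eq_fintype_card]
  exact Nat.le_of_dvd (by norm_num) h5

/-- two different commuting involutions of `M23` do not preserve the same pairs -/
theorem exists_moved {v w : Equiv.Perm GolayPt} (hv : v ∈ Spor.M23) (hw : w ∈ Spor.M23) (hv2 : v * v = 1)
    (hw2 : w * w = 1) (hc : v * w = w * v) (hv1 : v ≠ 1) (hw1 : w ≠ 1) (hvw : v ≠ w) :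
    ∃ p, v p ≠ p ∧ w p ≠ p ∧ w p ≠ v p := by
  classical
  have hx : v * w ∈ Spor.M23 := Subgroup.mul_mem _ hv hw
  have hx2 : v * w * (v * w) = 1 := by
    calc v * w * (v * w) = v * (w * v) * w := by group
      _ = v * (v * w) * w := by rw [hc]
      _ = (v * v) * (w * w) := by group
      _ = 1 := by rw [hv2, hw2, one_mul]
  have hx1 : v * w ≠ 1 := by
    intro he
    apply hvw
    have : v * w = v * v := by rw [he, hv2]
    exact (mul_left_cancel this).symm
  let F : Equiv.Perm GolayPt → Finset GolayPt := fun g => Finset.univ.filter fun p : GolayPt => g p = p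
  have hF : ∀ g p, p ∈ F g ↔ g p = p := fun g p => by
    simp only [F, Finset.mem_filter, Finset.mem_univ, true_and]
  have hcv : (F v).card = 8 := card_fix hv hv2 hv1
  have hcw : (F w).card = 8 := card_fix hw hw2 hw1
  have hcx : (F (v * w)).card = 8 := card_fix hx hx2 hx1
  have hlt : (F v ∪ F w ∪ F (v * w)).card < (Finset.univ : Finset GolayPt).card := by
    rw [Finset.card_univ, card_pts]
    have h1 := Finset.card_union_add_card_inter (F v) (F w)
    have h2 : 0 < (F v ∩ F w).card := Finset.card_pos.2 ⟨none, Finset.mem_inter.2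
      ⟨(hF _ _).2 (mem_M23.1 hv).2, (hF _ _).2 (mem_M23.1 hw).2⟩⟩
    have h3 := Finset.card_union_le (F v ∪ F w) (F (v * w))
    omega
  obtain ⟨p, -, hp⟩ := Finset.exists_mem_notMem_of_card_lt_card hlt
  rw [Finset.mem_union, Finset.mem_union, hF, hF, hF] at hp
  push Not at hp
  refine ⟨p, hp.1.1, hp.1.2, ?_⟩
  intro he
  apply hp.2
  rw [Equiv.Perm.mul_apply, he, ← Equiv.Perm.mul_apply, hv2, Equiv.Perm.one_apply]

end Cfsg.Agent.KFacts.FiTTh.MTwThree

end

-- merged: Cfsg.Agent.KFacts.FiTTh.Uniq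
section

/-!
# Fi23, facts on `K` (helper840): the elementary abelian subgroups of order `≥ 2¹¹` of `N(A) = A.M23`

`Loc A e pr ind` : `A = 2¹¹`, generated by the `e p`, `pr T` the product of the `e p`, `p ∈ T`, every element of `A` is
`pr T` for exactly one `T` with `none ∉ T`, `|T| ≤ 3`, and `ind : N(A) → M23` is onto with kernel `A`.

* `Loc.eq_of` : `A` is the only elementary abelian subgroup of order `≥ 2¹¹` of `N(A)`.
-/

set_option autoImplicit false

namespace Cfsg.Agent.KFacts.FiTTh.Uniq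

open Cfsg Subgroup
open Cfsg.Agent.KFacts.FiTTh.MTwThree
open scoped Pointwise

variable {K : Type*} [Group K]

/-- the group `A = 2¹¹` and the action of `N(A)` on it -/
structure Loc (A : Subgroup K) (e : GolayPt → K) (pr : Finset GolayPt → K)
    (ind : ↥(normalizer (A : Set K)) →* ↥Spor.M23) : Prop where
  sq : ∀ x ∈ A, x * x = 1
  cardA : Nat.card A = 2 ^ 11
  single : ∀ p, pr {p} = e p
  symm : ∀ S T, pr (symmDiff S T) = pr S * pr T
  mem : ∀ T, pr T ∈ A
  repr : ∀ x ∈ A, ∃ T : Finset GolayPt, none ∉ T ∧ T.card ≤ 3 ∧ x = pr T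
  inj : ∀ S T : Finset GolayPt, none ∉ S → S.card ≤ 3 → none ∉ T → T.card ≤ 3 → pr S = pr T → S = T
  conj : ∀ (n : ↥(normalizer (A : Set K))) (T : Finset GolayPt),
    (n : K) * pr T * (n : K)⁻¹ = pr (((ind n : Spor.M23) : Equiv.Perm GolayPt) • T)
  surj : Function.Surjective ind
  ker : ∀ n : ↥(normalizer (A : Set K)), ind n = 1 ↔ (n : K) ∈ A

namespace Loc

variable {A : Subgroup K} {e : GolayPt → K} {pr : Finset GolayPt → K}
  {ind : ↥(normalizer (A : Set K)) →* ↥Spor.M23}

theorem inv_eq (h : Loc A e pr ind) {x : K} (hx : x ∈ A) : x⁻¹ = x := inv_eq_of_mul_eq_one_left (h.sq x hx)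

theorem comm (h : Loc A e pr ind) {x y : K} (hx : x ∈ A) (hy : y ∈ A) : x * y = y * x := by
  have h1 := h.sq (x * y) (A.mul_mem hx hy)
  have h2 : (x * y)⁻¹ = x * y := inv_eq_of_mul_eq_one_left h1
  rw [← h2, mul_inv_rev, h.inv_eq hx, h.inv_eq hy]

theorem empty (h : Loc A e pr ind) : pr ∅ = 1 := by
  have h1 := h.symm ∅ ∅
  rw [symmDiff_self, Finset.bot_eq_empty] at h1
  exact (left_eq_mul.1 h1)

theorem single_ne (h : Loc A e pr ind) {p : GolayPt} (hp : p ≠ none) : e p ≠ 1 := by
  intro he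
  have h1 := h.inj {p} ∅ (fun hn => hp (Finset.mem_singleton.1 hn).symm) (by rw [Finset.card_singleton]; omega)
    (Finset.notMem_empty _) (by rw [Finset.card_empty]; omega) (by rw [h.single, he, h.empty])
  exact Finset.singleton_ne_empty _ h1

theorem pair (h : Loc A e pr ind) {p q : GolayPt} (hpq : p ≠ q) : pr {p, q} = e p * e q := by
  rw [← h.single, ← h.single, ← h.symm]
  congr 1
  rw [← Finset.disjoint_singleton] at hpq
  rw [hpq.symmDiff_eq_sup]
  rfl

theorem smul_pair (m : Equiv.Perm GolayPt) (p q : GolayPt) :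
    m • ({p, q} : Finset GolayPt) = {m p, m q} := by
  rw [Finset.smul_finset_insert, Finset.smul_finset_singleton]
  rfl

theorem conj_single (h : Loc A e pr ind) (n : ↥(normalizer (A : Set K))) (p : GolayPt) :
    (n : K) * e p * (n : K)⁻¹ = e (((ind n : Spor.M23) : Equiv.Perm GolayPt) p) := by
  rw [← h.single, h.conj, Finset.smul_finset_singleton, h.single]
  rfl

/-- the map `a ↦ [n, a]` of `A` -/
def dif (h : Loc A e pr ind) (n : ↥(normalizer (A : Set K))) : A →* A where
  toFun a := ⟨(n : K) * a * (n : K)⁻¹ * (a : K)⁻¹,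
    A.mul_mem ((mem_normalizer_iff.1 n.2 _).1 a.2) (A.inv_mem a.2)⟩
  map_one' := Subtype.ext (by simp)
  map_mul' a b := by
    apply Subtype.ext
    have h1 : (n : K) * a * (n : K)⁻¹ ∈ A := (mem_normalizer_iff.1 n.2 _).1 a.2
    have h2 : (n : K) * b * (n : K)⁻¹ ∈ A := (mem_normalizer_iff.1 n.2 _).1 b.2
    show (n : K) * ((a : K) * b) * (n : K)⁻¹ * ((a : K) * b)⁻¹
      = ((n : K) * a * (n : K)⁻¹ * (a : K)⁻¹) * ((n : K) * b * (n : K)⁻¹ * (b : K)⁻¹)
    have h3 : ((n : K) * b * (n : K)⁻¹ * (b : K)⁻¹) * (a : K)⁻¹ = (a : K)⁻¹ * ((n : K) * b * (n : K)⁻¹ * (b : K)⁻¹) :=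
      h.comm (A.mul_mem h2 (A.inv_mem b.2)) (A.inv_mem a.2)
    calc (n : K) * ((a : K) * b) * (n : K)⁻¹ * ((a : K) * b)⁻¹
        = (n : K) * a * (n : K)⁻¹ * (((n : K) * b * (n : K)⁻¹ * (b : K)⁻¹) * (a : K)⁻¹) := by group
      _ = (n : K) * a * (n : K)⁻¹ * ((a : K)⁻¹ * ((n : K) * b * (n : K)⁻¹ * (b : K)⁻¹)) := by rw [h3]
      _ = _ := by group

theorem mem_ker_dif (h : Loc A e pr ind) (n : ↥(normalizer (A : Set K))) (a : A) :
    a ∈ (h.dif n).ker ↔ (a : K) ∈ centralizer ({(n : K)} : Set K) := by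
  rw [MonoidHom.mem_ker, mem_centralizer_singleton_iff]
  constructor
  · intro h1
    have h2 : (n : K) * a * (n : K)⁻¹ * (a : K)⁻¹ = 1 := congrArg Subtype.val h1
    rw [mul_inv_eq_one, mul_inv_eq_iff_eq_mul] at h2
    exact h2.symm
  · intro h1
    apply Subtype.ext
    show (n : K) * a * (n : K)⁻¹ * (a : K)⁻¹ = 1
    rw [mul_inv_eq_one, mul_inv_eq_iff_eq_mul]
    exact h1.symm

/-- `|C_A(n)| ≤ 2⁷` for `n` inducing an involution -/
theorem card_cen_le [Finite A] (h : Loc A e pr ind) (n : ↥(normalizer (A : Set K)))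
    (h2 : ((ind n : Spor.M23) : Equiv.Perm GolayPt) * ((ind n : Spor.M23) : Equiv.Perm GolayPt) = 1)
    (h1 : ((ind n : Spor.M23) : Equiv.Perm GolayPt) ≠ 1) :
    Nat.card (A ⊓ centralizer ({(n : K)} : Set K) : Subgroup K) ≤ 2 ^ 7 := by
  classical
  set v : Equiv.Perm GolayPt := ((ind n : Spor.M23) : Equiv.Perm GolayPt) with hv
  have hvM : v ∈ Spor.M23 := (ind n).2
  have hvv : ∀ p, v (v p) = p := fun p => by rw [← Equiv.Perm.mul_apply, h2, Equiv.Perm.one_apply]
  have hcf := card_fix hvM h2 h1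
  set M : Finset GolayPt := Finset.univ.filter fun p => v p ≠ p with hM
  have hcM : M.card = 16 := by
    have h3 := Finset.card_filter_add_card_filter_not (s := (Finset.univ : Finset GolayPt)) (fun p => v p = p)
    rw [hcf, Finset.card_univ, card_pts] at h3
    have h4 : M.card = (Finset.univ.filter fun p : GolayPt => ¬ v p = p).card := rfl
    omega
  have hMn : ∀ p ∈ M, p ≠ none ∧ v p ≠ none := by
    intro p hp
    have hp' : v p ≠ p := (Finset.mem_filter.1 hp).2
    have hn : v none = none := (mem_M23.1 hvM).2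
    refine ⟨fun he => hp' (by rw [he, hn]), fun he => hp' ?_⟩
    have : v p = v none := by rw [he, hn]
    rw [v.injective this, hn]
  have hnn : ∀ p ∈ M, none ∉ ({p, v p} : Finset GolayPt) := by
    intro p hp hn
    rw [Finset.mem_insert, Finset.mem_singleton] at hn
    rcases hn with hn | hn
    · exact (hMn p hp).1 hn.symm
    · exact (hMn p hp).2 hn.symm
  have hc2 : ∀ p : GolayPt, ({p, v p} : Finset GolayPt).card ≤ 3 := fun p =>
    (Finset.card_insert_le _ _).trans (by rw [Finset.card_singleton]; omega)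
  let f : GolayPt → A := fun p => ⟨pr {p, v p}, h.mem _⟩
  have hf1 : ∀ p ∈ M, f p ∈ (h.dif n).range := by
    intro p hp
    have hp' : v p ≠ p := (Finset.mem_filter.1 hp).2
    refine ⟨⟨pr {p}, h.mem _⟩, ?_⟩
    apply Subtype.ext
    show (n : K) * pr {p} * (n : K)⁻¹ * (pr {p})⁻¹ = pr {p, v p}
    rw [h.inv_eq (h.mem _), h.single, h.conj_single, Finset.pair_comm, h.pair hp']
  have hf2 : ∀ p ∈ M, f p ≠ 1 := by
    intro p hp he
    have he' : pr {p, v p} = pr ∅ := by rw [h.empty]; exact congrArg Subtype.val he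
    have := h.inj _ _ (hnn p hp) (hc2 p) (Finset.notMem_empty _) (by rw [Finset.card_empty]; omega) he'
    exact absurd this (Finset.insert_ne_empty _ _)
  have hf3 : M.card ≤ 2 * (M.image f).card := by
    apply Finset.card_le_mul_card_image
    intro x hx
    obtain ⟨p, hp, rfl⟩ := Finset.mem_image.1 hx
    refine (Finset.card_le_card (t := {p, v p}) ?_).trans Finset.card_le_two
    intro q hq
    obtain ⟨hq1, hq2⟩ := Finset.mem_filter.1 hq
    have he : pr {q, v q} = pr {p, v p} := congrArg Subtype.val hq2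
    have := h.inj _ _ (hnn q hq1) (hc2 q) (hnn p hp) (hc2 p) he
    rw [← this]
    exact Finset.mem_insert_self _ _
  have h9 : 9 ≤ (insert 1 (M.image f)).card := by
    rw [Finset.card_insert_of_notMem]
    · omega
    · intro hn
      obtain ⟨p, hp, hp1⟩ := Finset.mem_image.1 hn
      exact hf2 p hp hp1
  have h9' : 9 ≤ Nat.card (h.dif n).range := by
    have hsub : ((insert 1 (M.image f) : Finset A) : Set A) ⊆ ((h.dif n).range : Set A) := by
      intro x hx
      rw [Finset.mem_coe, Finset.mem_insert] at hx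
      rcases hx with rfl | hx
      · exact (h.dif n).range.one_mem
      · obtain ⟨p, hp, rfl⟩ := Finset.mem_image.1 hx
        exact hf1 p hp
    have h3 := Set.ncard_le_ncard hsub (Set.toFinite _)
    rw [Set.ncard_coe_finset] at h3
    exact h9.trans h3
  have hdvd : Nat.card (h.dif n).range ∣ 2 ^ 11 := by
    rw [← h.cardA]
    exact Subgroup.card_subgroup_dvd_card _
  obtain ⟨k, hk, hk2⟩ := (Nat.dvd_prime_pow Nat.prime_two).1 hdvd
  have hk4 : 4 ≤ k := by
    by_contra hlt
    have : (2 : ℕ) ^ k ≤ 2 ^ 3 := Nat.pow_le_pow_right (by norm_num) (by omega)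
    omega
  have hprod : Nat.card (h.dif n).ker * Nat.card (h.dif n).range = 2 ^ 11 := by
    rw [← h.cardA, ← Subgroup.index_ker]
    exact Subgroup.card_mul_index _
  have hker : Nat.card (h.dif n).ker = Nat.card (A ⊓ centralizer ({(n : K)} : Set K) : Subgroup K) := by
    apply Nat.card_congr
    exact
      { toFun := fun a => ⟨(a : A), (a : A).2, (h.mem_ker_dif n a).1 a.2⟩
        invFun := fun a => ⟨⟨a, a.2.1⟩, (h.mem_ker_dif n _).2 a.2.2⟩
        left_inv := fun _ => rfl
        right_inv := fun _ => rfl }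
  rw [← hker]
  by_contra hlt
  push Not at hlt
  have h16 : 2 ^ 4 ≤ Nat.card (h.dif n).range := by
    rw [hk2]; exact Nat.pow_le_pow_right (by norm_num) hk4
  nlinarith [Nat.mul_le_mul (Nat.succ_le_of_lt hlt) h16]

/-- `|C_A(n) ∩ C_A(n')| ≤ 2⁶` for `n`, `n'` inducing different commuting involutions -/
theorem card_cen_cen_le [Finite A] (h : Loc A e pr ind) (n n' : ↥(normalizer (A : Set K)))
    (h2 : ((ind n : Spor.M23) : Equiv.Perm GolayPt) * ((ind n : Spor.M23) : Equiv.Perm GolayPt) = 1)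
    (h1 : ((ind n : Spor.M23) : Equiv.Perm GolayPt) ≠ 1)
    (h2' : ((ind n' : Spor.M23) : Equiv.Perm GolayPt) * ((ind n' : Spor.M23) : Equiv.Perm GolayPt) = 1)
    (h1' : ((ind n' : Spor.M23) : Equiv.Perm GolayPt) ≠ 1)
    (hc : ((ind n : Spor.M23) : Equiv.Perm GolayPt) * ((ind n' : Spor.M23) : Equiv.Perm GolayPt)
      = ((ind n' : Spor.M23) : Equiv.Perm GolayPt) * ((ind n : Spor.M23) : Equiv.Perm GolayPt))
    (hne : ((ind n : Spor.M23) : Equiv.Perm GolayPt) ≠ ((ind n' : Spor.M23) : Equiv.Perm GolayPt)) :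
    Nat.card (A ⊓ centralizer ({(n : K)} : Set K) ⊓ centralizer ({(n' : K)} : Set K) : Subgroup K) ≤ 2 ^ 6 := by
  classical
  obtain ⟨p, hp1, hp2, hp3⟩ := exists_moved (ind n).2 (ind n').2 h2 h2' hc h1 h1' hne
  set v : Equiv.Perm GolayPt := ((ind n : Spor.M23) : Equiv.Perm GolayPt) with hv
  set w : Equiv.Perm GolayPt := ((ind n' : Spor.M23) : Equiv.Perm GolayPt) with hw
  have hvv : ∀ p, v (v p) = p := fun p => by rw [← Equiv.Perm.mul_apply, h2, Equiv.Perm.one_apply]
  have hvn : v none = none := (mem_M23.1 (ind n).2).2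
  have hwn : w none = none := (mem_M23.1 (ind n').2).2
  have hpn : p ≠ none := fun he => hp1 (by rw [he, hvn])
  have hne1 : ∀ (g : Equiv.Perm GolayPt) (q : GolayPt), g none = none → q ≠ none → g q ≠ none := by
    intro g q hg hq he
    exact hq (g.injective (he.trans hg.symm))
  have hnot : ∀ q r : GolayPt, q ≠ none → r ≠ none → none ∉ ({q, r} : Finset GolayPt) := by
    intro q r hq hr hn
    rw [Finset.mem_insert, Finset.mem_singleton] at hn
    rcases hn with hn | hn
    · exact hq hn.symm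
    · exact hr hn.symm
  have hc2 : ∀ q r : GolayPt, ({q, r} : Finset GolayPt).card ≤ 3 := fun q r =>
    (Finset.card_insert_le _ _).trans (by rw [Finset.card_singleton]; omega)
  set C : Subgroup K := A ⊓ centralizer ({(n : K)} : Set K) with hC
  set D : Subgroup K := C ⊓ centralizer ({(n' : K)} : Set K) with hD
  have hx : pr {p, v p} ∈ C := by
    refine ⟨h.mem _, mem_centralizer_singleton_iff.2 ?_⟩
    have h3 := h.conj n {p, v p}
    rw [← hv, smul_pair, hvv, Finset.pair_comm (v p) p, mul_inv_eq_iff_eq_mul] at h3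
    exact h3.symm
  have hx' : pr {p, v p} ∉ D := by
    intro hmem
    have h3 := mem_centralizer_singleton_iff.1 hmem.2
    have h4 := h.conj n' {p, v p}
    rw [← hw, smul_pair, ← h3, mul_inv_cancel_right] at h4
    have h5 := h.inj _ _ (hnot _ _ hpn (hne1 v p hvn hpn)) (hc2 _ _)
      (hnot _ _ (hne1 w p hwn hpn) (hne1 w _ hwn (hne1 v p hvn hpn))) (hc2 _ _) h4
    have h6 : w p ∈ ({p, v p} : Finset GolayPt) := by
      rw [h5]; exact Finset.mem_insert_self _ _
    rw [Finset.mem_insert, Finset.mem_singleton] at h6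
    rcases h6 with h6 | h6
    · exact hp2 h6
    · exact hp3 h6
  have hDC : D < C := lt_of_le_of_ne inf_le_left (fun he => hx' (he ▸ hx))
  have : Finite C := Finite.of_injective _ (Subgroup.inclusion_injective (inf_le_left : C ≤ A))
  have hcC : Nat.card C ≤ 2 ^ 7 := h.card_cen_le n h2 h1
  have hdvd : Nat.card D ∣ Nat.card C := Subgroup.card_dvd_of_le hDC.le
  have hneC : Nat.card D ≠ Nat.card C := by
    intro he
    exact hDC.ne (Subgroup.eq_of_le_of_card_ge hDC.le he.ge)
  obtain ⟨k, hk⟩ := hdvd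
  have hDpos : 0 < Nat.card C := Nat.card_pos
  have hk2 : 2 ≤ k := by
    rcases k with _ | _ | k
    · rw [mul_zero] at hk; omega
    · rw [zero_add, mul_one] at hk; exact absurd hk.symm hneC
    · omega
  have : Nat.card D * 2 ≤ Nat.card D * k := Nat.mul_le_mul_left _ hk2
  omega

/-- `A` is the only elementary abelian subgroup of order `≥ 2¹¹` of `N(A)` -/
theorem eq_of [Finite K] (h : Loc A e pr ind) {E : Subgroup K} (hE : E ≤ normalizer (A : Set K))
    (h2 : ∀ x ∈ E, x * x = 1) (hc : 2 ^ 11 ≤ Nat.card E) : E = A := by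
  classical
  let f : E →* Equiv.Perm GolayPt := (Spor.M23.subtype).comp (ind.comp (Subgroup.inclusion hE))
  have hf : ∀ (x : E), f x = ((ind ⟨x, hE x.2⟩ : Spor.M23) : Equiv.Perm GolayPt) := fun x => rfl
  have hM : f.range ≤ Spor.M23 := by
    rintro _ ⟨x, rfl⟩
    exact (ind ⟨x, hE x.2⟩).2
  have hsq : ∀ v ∈ f.range, v * v = 1 := by
    rintro _ ⟨x, rfl⟩
    rw [← map_mul, show x * x = 1 from Subtype.ext (h2 x x.2), map_one]
  have h16 : Nat.card f.range ≤ 16 := card_le_sixteen hM hsq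
  have hker : ∀ x : E, f x = 1 → (x : K) ∈ A := by
    intro x hx
    exact (h.ker ⟨x, hE x.2⟩).1 (Subtype.ext hx)
  have hprod : Nat.card f.ker * Nat.card f.range = Nat.card E := by
    rw [← Subgroup.index_ker]
    exact Subgroup.card_mul_index _
  have hcomm : ∀ x y : E, x * y = y * x := by
    intro x y
    have e1 : (x * y) * (x * y) = 1 := Subtype.ext (h2 _ (x * y).2)
    have e2 : x * x = 1 := Subtype.ext (h2 _ x.2)
    have e3 : y * y = 1 := Subtype.ext (h2 _ y.2)
    have e4 : (x * y)⁻¹ = x * y := inv_eq_of_mul_eq_one_left e1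
    rw [← e4, mul_inv_rev, inv_eq_of_mul_eq_one_left e2, inv_eq_of_mul_eq_one_left e3]
  -- the kernel embeds in the centralizer in `A` of any two elements
  have hkle : ∀ x y : E, Nat.card f.ker ≤
      Nat.card (A ⊓ centralizer ({(x : K)} : Set K) ⊓ centralizer ({(y : K)} : Set K) : Subgroup K) := by
    intro x y
    rw [Nat.card_congr (f.ker.equivMapOfInjective _ (Subgroup.subtype_injective E)).toEquiv]
    apply Subgroup.card_le_of_le
    rintro _ ⟨k, hk, rfl⟩
    exact ⟨⟨hker k (MonoidHom.mem_ker.1 hk),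
      mem_centralizer_singleton_iff.2 (congrArg Subtype.val (hcomm k x))⟩,
      mem_centralizer_singleton_iff.2 (congrArg Subtype.val (hcomm k y))⟩
  by_cases hV : ∀ x : E, f x = 1
  · have hle : E ≤ A := fun x hx => hker ⟨x, hx⟩ (hV _)
    exact Subgroup.eq_of_le_of_card_ge hle (by rw [h.cardA]; exact hc)
  · exfalso
    push Not at hV
    obtain ⟨x, hx⟩ := hV
    by_cases hW : ∃ y : E, f y ≠ 1 ∧ f x ≠ f y
    · obtain ⟨y, hy1, hy2⟩ := hW
      have hle := (hkle x y).trans (h.card_cen_cen_le ⟨x, hE x.2⟩ ⟨y, hE y.2⟩ (hsq _ ⟨x, rfl⟩) hx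
        (hsq _ ⟨y, rfl⟩) hy1 (by
          show f x * f y = f y * f x
          rw [← map_mul, hcomm, map_mul]) hy2)
      have := Nat.mul_le_mul hle h16
      omega
    · push Not at hW
      have hle := (hkle x x).trans ((Subgroup.card_le_of_le inf_le_left).trans
        (h.card_cen_le ⟨x, hE x.2⟩ (hsq _ ⟨x, rfl⟩) hx))
      have hr : Nat.card f.range ≤ 2 := by
        have hsub : (f.range : Set (Equiv.Perm GolayPt)) ⊆ {1, f x} := by
          rintro _ ⟨y, rfl⟩
          by_cases hy : f y = 1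
          · left; exact hy
          · right; exact (hW y hy).symm
        have h3 := Set.ncard_le_ncard hsub (Set.toFinite _)
        exact h3.trans (Set.ncard_insert_le _ _ |>.trans (by rw [Set.ncard_singleton]))
      have := Nat.mul_le_mul hle hr
      omega

end Loc

end Cfsg.Agent.KFacts.FiTTh.Uniq

end
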